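import Groth.Prelude.Def_Tame
import Groth.Agent.LatticeLib24.Dist
import Mathlib.RingTheory.OrderOfVanishing.Noetherian
import Mathlib.RingTheory.DiscreteValuationRing.TFAE
import Mathlib.RingTheory.RegularLocalRing.Defs

/-! # The order function of a discrete valuation ring, weak approximation -/

set_option autoImplicit false

namespace Groth.Agent.LocSymLib29

universe u v w

open Groth.Agent.LatticeLib24

/-- a regular local domain of dimension one is a discrete valuation ring -/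
theorem isDVR_of_regular (R : Type u) [CommRing R] [IsDomain R] [IsRegularLocalRing R]
    (h : ringKrullDim R = 1) : IsDiscreteValuationRing R := by
  have hnf : ¬ IsField R := fun hf => by
    rw [ringKrullDim_eq_zero_of_isField hf] at h; exact zero_ne_one h
  have hs := (isRegularLocalRing_iff R).1 inferInstance
  rw [h] at hs
  have h1 : (IsLocalRing.maximalIdeal R).spanFinrank = 1 := by exact_mod_cast hs
  have hfg : (IsLocalRing.maximalIdeal R).FG := IsNoetherian.noetherian _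
  obtain ⟨T, hT, hsp⟩ : ∃ T : Finset R, T.card = 1 ∧ Ideal.span (T : Set R) = IsLocalRing.maximalIdeal R := by
    obtain ⟨s, hc, hsp⟩ := Submodule.FG.exists_span_finset_card_eq_spanFinrank hfg
    exact ⟨s, hc.trans h1, hsp⟩
  obtain ⟨x, rfl⟩ := Finset.card_eq_one.1 hT
  have hp : Submodule.IsPrincipal (IsLocalRing.maximalIdeal R) :=
    ⟨x, by rw [← hsp, Finset.coe_singleton]⟩
  exact ((IsDiscreteValuationRing.TFAE R hnf).out 4 0 rfl rfl).1 hp

section DVR

variable (R : Type u) [CommRing R] [IsDomain R] [IsDiscreteValuationRing R]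
  (K : Type v) [Field K] [Algebra R K] [IsFractionRing R K]

theorem ord_unit (a : Rˣ) : CycAlg.ordFrac R K (algebraMap R K a) = 0 := by
  rw [ordFrac_algebraMap R K a.ne_zero, Ring.ord_of_isUnit a.isUnit]; rfl

theorem ord_irreducible {ϖ : R} (h : Irreducible ϖ) : CycAlg.ordFrac R K (algebraMap R K ϖ) = 1 := by
  rw [ordFrac_algebraMap R K h.ne_zero, Ring.ord_of_irreducible h]; rfl

theorem ord_inv {f : K} (hf : f ≠ 0) : CycAlg.ordFrac R K f⁻¹ = -CycAlg.ordFrac R K f := by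
  have := ordFrac_mul R K hf (inv_ne_zero hf)
  rw [mul_inv_cancel₀ hf, ordFrac_one] at this
  omega

theorem ord_zpow {f : K} (hf : f ≠ 0) (n : ℤ) : CycAlg.ordFrac R K (f ^ n) = n * CycAlg.ordFrac R K f := by
  induction n using Int.induction_on with
  | zero => simp [ordFrac_one]
  | succ n ih => rw [zpow_add_one₀ hf, ordFrac_mul R K (zpow_ne_zero _ hf) hf, ih]; ring
  | pred n ih => rw [zpow_sub_one₀ hf, ordFrac_mul R K (zpow_ne_zero _ hf) (inv_ne_zero hf), ih, ord_inv R K hf]; ring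

theorem exists_eq_unit_mul_zpow {ϖ : R} (hϖ : Irreducible ϖ) {f : K} (hf : f ≠ 0) :
    ∃ w : Rˣ, f = algebraMap R K w * algebraMap R K ϖ ^ CycAlg.ordFrac R K f := by
  obtain ⟨x, y, hy, rfl⟩ := IsFractionRing.div_surjective (A := R) f
  have hy0 : y ≠ 0 := nonZeroDivisors.ne_zero hy
  have hx0 : x ≠ 0 := by rintro rfl; simp at hf
  obtain ⟨n, a, ha⟩ := IsDiscreteValuationRing.eq_unit_mul_pow_irreducible hx0 hϖ
  obtain ⟨m, b, hb⟩ := IsDiscreteValuationRing.eq_unit_mul_pow_irreducible hy0 hϖ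
  have hp : algebraMap R K ϖ ≠ 0 := (map_ne_zero_iff _ (IsFractionRing.injective R K)).2 hϖ.ne_zero
  have hu : ∀ c : Rˣ, algebraMap R K c ≠ 0 := fun c =>
    (map_ne_zero_iff _ (IsFractionRing.injective R K)).2 c.ne_zero
  have e : algebraMap R K x / algebraMap R K y = algebraMap R K (a * b⁻¹ : Rˣ) * algebraMap R K ϖ ^ ((n : ℤ) - m) := by
    rw [ha, hb, zpow_sub₀ hp, zpow_natCast, zpow_natCast, Units.val_mul, map_mul, map_mul, map_mul, map_units_inv,
      map_pow, map_pow]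
    field_simp
  refine ⟨a * b⁻¹, ?_⟩
  rw [e, ordFrac_mul R K (hu _) (zpow_ne_zero _ hp), ord_unit, ord_zpow R K hp, ord_irreducible R K hϖ, zero_add, mul_one]

theorem ord_nonneg_iff {f : K} (hf : f ≠ 0) :
    0 ≤ CycAlg.ordFrac R K f ↔ f ∈ Set.range (algebraMap R K) := by
  constructor
  · intro h
    obtain ⟨ϖ, hϖ⟩ := IsDiscreteValuationRing.exists_irreducible R
    obtain ⟨w, hw⟩ := exists_eq_unit_mul_zpow R K hϖ hf
    obtain ⟨n, hn⟩ := Int.eq_ofNat_of_zero_le h
    rw [hn, zpow_natCast] at hw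
    exact ⟨w * ϖ ^ n, by rw [map_mul, map_pow, ← hw]⟩
  · rintro ⟨a, rfl⟩
    rw [ordFrac_algebraMap R K (by rintro rfl; simp at hf)]
    positivity

theorem ord_add {f g : K} (hf : f ≠ 0) (hg : g ≠ 0) (hfg : f + g ≠ 0) :
    min (CycAlg.ordFrac R K f) (CycAlg.ordFrac R K g) ≤ CycAlg.ordFrac R K (f + g) := by
  obtain ⟨ϖ, hϖ⟩ := IsDiscreteValuationRing.exists_irreducible R
  set n := min (CycAlg.ordFrac R K f) (CycAlg.ordFrac R K g)
  have hp : algebraMap R K ϖ ≠ 0 := (map_ne_zero_iff _ (IsFractionRing.injective R K)).2 hϖ.ne_zero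
  set p := algebraMap R K ϖ ^ (-n)
  have hp' : p ≠ 0 := zpow_ne_zero _ hp
  have hv : ∀ {x : K}, x ≠ 0 → CycAlg.ordFrac R K (x * p) = CycAlg.ordFrac R K x - n := fun hx => by
    rw [ordFrac_mul R K hx hp', ord_zpow R K hp, ord_irreducible R K hϖ]; ring
  obtain ⟨a, ha⟩ := (ord_nonneg_iff R K (mul_ne_zero hf hp')).1 (by rw [hv hf]; omega)
  obtain ⟨b, hb⟩ := (ord_nonneg_iff R K (mul_ne_zero hg hp')).1 (by rw [hv hg]; omega)
  have := (ord_nonneg_iff R K (mul_ne_zero hfg hp')).2 ⟨a + b, by rw [map_add, ha, hb, add_mul]⟩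
  rw [hv hfg] at this
  omega

theorem ord_neg (f : K) : CycAlg.ordFrac R K (-f) = CycAlg.ordFrac R K f := by
  rcases eq_or_ne f 0 with rfl | hf
  · rw [neg_zero]
  · rw [show -f = algebraMap R K ((-1 : Rˣ) : R) * f by simp,
      ordFrac_mul R K (by simp) hf, ord_unit, zero_add]

end DVR

/-- a normalised valuation on a field, additively, with junk value at zero -/
structure IsVal {K : Type v} [Field K] (v : K → ℤ) : Prop where
  mul : ∀ {x y : K}, x ≠ 0 → y ≠ 0 → v (x * y) = v x + v y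
  add : ∀ {x y : K}, x ≠ 0 → y ≠ 0 → x + y ≠ 0 → min (v x) (v y) ≤ v (x + y)
  neg : ∀ x : K, v (-x) = v x

namespace IsVal

variable {K : Type v} [Field K] {v : K → ℤ} (hv : IsVal v)
include hv

theorem one : v 1 = 0 := by
  have h := hv.mul (one_ne_zero : (1 : K) ≠ 0) one_ne_zero
  rw [one_mul] at h; omega

theorem inv {x : K} (hx : x ≠ 0) : v x⁻¹ = -v x := by
  have h := hv.mul hx (inv_ne_zero hx)
  rw [mul_inv_cancel₀ hx, hv.one] at h; omega

theorem div {x y : K} (hx : x ≠ 0) (hy : y ≠ 0) : v (x / y) = v x - v y := by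
  rw [div_eq_mul_inv, hv.mul hx (inv_ne_zero hy), hv.inv hy]; ring

theorem pow {x : K} (hx : x ≠ 0) (n : ℕ) : v (x ^ n) = n * v x := by
  induction n with
  | zero => simp [hv.one]
  | succ n ih => rw [pow_succ, hv.mul (pow_ne_zero n hx) hx, ih]; push_cast; ring

theorem add_eq_of_lt {x y : K} (hx : x ≠ 0) (hy : y ≠ 0) (h : v x < v y) : x + y ≠ 0 ∧ v (x + y) = v x := by
  have hne : x + y ≠ 0 := fun h0 => by
    rw [add_eq_zero_iff_eq_neg.1 h0, hv.neg] at h; omega
  refine ⟨hne, ?_⟩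
  have h1 := hv.add hx hy hne
  have h2 := hv.add hne (neg_ne_zero.2 hy) (by simpa using hx)
  rw [add_neg_cancel_right, hv.neg] at h2
  omega

end IsVal

/-- an element positive at one valuation, negative at the others -/
theorem exists_pos_neg {K : Type v} [Field K] {ι : Type w} [DecidableEq ι] (v : ι → K → ℤ) (hv : ∀ i, IsVal (v i))
    (hinc : ∀ i j, i ≠ j → ∃ b : K, b ≠ 0 ∧ 0 ≤ v i b ∧ v j b < 0) (i₀ : ι) (s : Finset ι) (hs : i₀ ∉ s)
    (htriv : ∃ b : K, b ≠ 0 ∧ 0 < v i₀ b) :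
    ∃ a : K, a ≠ 0 ∧ 0 < v i₀ a ∧ ∀ i ∈ s, v i a < 0 := by
  induction s using Finset.induction_on with
  | empty => obtain ⟨b, hb, hb'⟩ := htriv; exact ⟨b, hb, hb', by simp⟩
  | @insert r s hr ih =>
    rw [Finset.mem_insert, not_or] at hs
    obtain ⟨a, ha, ha0, has⟩ := ih hs.2
    obtain ⟨b, hb, hb0, hbr⟩ := hinc i₀ r hs.1
    obtain ⟨c, hc, hcr, hc0⟩ := hinc r i₀ (Ne.symm hs.1)
    obtain ⟨z, hz, hz0, hzr⟩ : ∃ z : K, z ≠ 0 ∧ 0 < v i₀ z ∧ v r z < 0 :=
      ⟨b / c, div_ne_zero hb hc, by rw [(hv i₀).div hb hc]; omega, by rw [(hv r).div hb hc]; omega⟩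
    by_cases har : v r a < 0
    · exact ⟨a, ha, ha0, fun i hi => by
        rcases Finset.mem_insert.1 hi with rfl | hi
        · exact har
        · exact has i hi⟩
    push Not at har
    let m : ℕ := (s.sum fun i => (v i z).natAbs) + 1
    have hlt : ∀ i ∈ s, v i (a ^ m) < v i z := by
      intro i hi
      rw [(hv i).pow ha]
      have h1 : (v i z).natAbs < m := Nat.lt_succ_of_le (Finset.single_le_sum (f := fun i => (v i z).natAbs) (fun _ _ => Nat.zero_le _) hi)
      have h2 : (m : ℤ) * v i a ≤ -(m : ℤ) := by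
        have := has i hi
        nlinarith
      omega
    have hm : a ^ m ≠ 0 := pow_ne_zero _ ha
    have hrlt : v r z < v r (a ^ m) := by
      rw [(hv r).pow ha]
      have : (0 : ℤ) ≤ (m : ℤ) * v r a := mul_nonneg (by positivity) har
      omega
    obtain ⟨hne, hsum⟩ := (hv r).add_eq_of_lt hz hm hrlt
    refine ⟨z + a ^ m, hne, ?_, fun i hi => ?_⟩
    · have := (hv i₀).add hz hm hne
      rw [(hv i₀).pow ha] at this
      have : (0 : ℤ) < (m : ℤ) * v i₀ a := mul_pos (by positivity) ha0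
      omega
    · rcases Finset.mem_insert.1 hi with rfl | hi
      · omega
      · rw [add_comm, ((hv i).add_eq_of_lt hm hz (hlt i hi)).2, (hv i).pow ha]
        exact mul_neg_of_pos_of_neg (by positivity) (has i hi)

/-- weak approximation of the indicator of one valuation -/
theorem exists_near_delta {K : Type v} [Field K] {ι : Type w} [DecidableEq ι] (v : ι → K → ℤ) (hv : ∀ i, IsVal (v i))
    (hinc : ∀ i j, i ≠ j → ∃ b : K, b ≠ 0 ∧ 0 ≤ v i b ∧ v j b < 0) (i₀ : ι) (s : Finset ι) (hs : i₀ ∉ s)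
    (htriv : ∃ b : K, b ≠ 0 ∧ 0 < v i₀ b) (n : ℕ) :
    ∃ e : K, (e = 1 ∨ (n : ℤ) ≤ v i₀ (e - 1)) ∧ ∀ i ∈ s, e = 0 ∨ (n : ℤ) ≤ v i e := by
  obtain ⟨a, ha, ha0, has⟩ := exists_pos_neg v hv hinc i₀ s hs htriv
  let m := n + 1
  have hm : a ^ m ≠ 0 := pow_ne_zero _ ha
  have h0 : v i₀ 1 < v i₀ (a ^ m) := by
    rw [(hv i₀).one, (hv i₀).pow ha]; exact mul_pos (by positivity) ha0
  obtain ⟨hne, hv0⟩ := (hv i₀).add_eq_of_lt one_ne_zero hm h0
  refine ⟨(1 + a ^ m)⁻¹, Or.inr ?_, fun i hi => Or.inr ?_⟩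
  · rw [show (1 + a ^ m)⁻¹ - 1 = -(a ^ m / (1 + a ^ m)) by field_simp; ring, (hv i₀).neg, (hv i₀).div hm hne,
      hv0, (hv i₀).one, (hv i₀).pow ha, sub_zero]
    have : (1 : ℤ) ≤ v i₀ a := ha0
    calc (n : ℤ) ≤ (m : ℤ) * 1 := by simp [m]
      _ ≤ _ := mul_le_mul_of_nonneg_left this (by positivity)
  · have hneg : v i (a ^ m) < v i 1 := by
      rw [(hv i).one, (hv i).pow ha]; exact mul_neg_of_pos_of_neg (by positivity) (has i hi)
    rw [(hv i).inv hne, add_comm, ((hv i).add_eq_of_lt hm one_ne_zero hneg).2, (hv i).pow ha]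
    have := has i hi
    have : (m : ℤ) * v i a ≤ -(m : ℤ) := by nlinarith
    simp only [m] at this ⊢
    push_cast at this ⊢
    omega

end Groth.Agent.LocSymLib29
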