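import Groth.Prelude.Def_W4bk6serrecg25LocSym
import Groth.Agent.LocSymLib29.Ord
import Groth.Agent.VarietyLib.SmoothStalk
import Groth.Agent.CurveLib.OverField
import Groth.Agent.CurvesLib24.Basic
import Groth.Agent.AbSchLib.GlobalSections
import Mathlib.AlgebraicGeometry.AlgClosed.Basic

/-! # Orders, divisors and weak approximation on a smooth proper curve -/

set_option autoImplicit false

universe u

open CategoryTheory AlgebraicGeometry LocSym

namespace Groth.Agent.LocSymLib29

open Groth.Agent.LatticeLib24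

variable {k : Type u} [Field k] [IsAlgClosed k] {X : Scheme.{u}} [IsIntegral X]
  {c : X ⟶ Spec (CommRingCat.of k)} [IsProper c] [Smooth c] (hdim : topologicalKrullDim X = 1)

omit [IsIntegral X] [Smooth c] in
theorem pt_eq (x : Pt c) : x.pt = ((pointEquivClosedPoint c) x).1 := rfl

omit [IsIntegral X] [Smooth c] in
theorem pt_injective : Function.Injective (Pt.pt (c := c)) := fun _ _ h =>
  (pointEquivClosedPoint c).injective (Subtype.ext h)

omit [IsIntegral X] [Smooth c] in
theorem isClosed_pt (x : Pt c) : IsClosed ({x.pt} : Set X) := ((pointEquivClosedPoint c) x).2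

omit [IsIntegral X] [Smooth c] in
theorem exists_pt {P : X} (hP : IsClosed ({P} : Set X)) : ∃ x : Pt c, x.pt = P :=
  ⟨(pointEquivClosedPoint c).symm ⟨P, hP⟩, congrArg Subtype.val ((pointEquivClosedPoint c).apply_symm_apply ⟨P, hP⟩)⟩

include c in
omit [IsIntegral X] [Smooth c] [IsAlgClosed k] in
theorem isNoetherian_of_proper : IsNoetherian X := by
  haveI : IsLocallyNoetherian X := LocallyOfFiniteType.isLocallyNoetherian c
  haveI : CompactSpace X := (quasiCompact_iff_compactSpace c).1 inferInstance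
  exact {}

include hdim in
theorem isDVR_stalk (x : Pt c) : IsDiscreteValuationRing (X.presheaf.stalk x.pt) := by
  haveI := Groth.Agent.VarietyLib.isRegularLocalRing_stalk_of_smooth k X c x.pt
  refine isDVR_of_regular _ (le_antisymm ((CurvesLib24.stalk_dim_le_topologicalKrullDim x.pt).trans hdim.le) ?_)
  rw [ringKrullDim_stalk_eq_coheight]
  have hne : x.pt ≠ genericPoint X := fun h => CurvesLib24.not_isClosed_genericPoint hdim (h ▸ isClosed_pt x)
  have : x.pt < genericPoint X :=
    lt_of_le_not_ge (genericPoint_specializes x.pt) fun h => hne (Specializes.antisymm h (genericPoint_specializes x.pt)).eq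
  have h1 := Order.coheight_add_one_le this
  exact_mod_cast le_trans le_add_self h1

include hdim in
theorem isVal (x : Pt c) : IsVal (x.ord : X.functionField → ℤ) :=
  haveI := isDVR_stalk hdim x
  { mul := fun hx hy => ordFrac_mul _ _ hx hy
    add := fun hx hy hxy => LocSymLib29.ord_add _ _ hx hy hxy
    neg := fun z => LocSymLib29.ord_neg _ _ z }

include hdim

theorem ord_one (x : Pt c) : x.ord (1 : X.functionField) = 0 := (isVal hdim x).one

theorem ord_mul (x : Pt c) {f g : X.functionField} (hf : f ≠ 0) (hg : g ≠ 0) :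
    x.ord (f * g) = x.ord f + x.ord g := (isVal hdim x).mul hf hg

theorem pt_ord_inv (x : Pt c) {f : X.functionField} (hf : f ≠ 0) : x.ord f⁻¹ = -x.ord f := (isVal hdim x).inv hf

theorem nonneg_iff (x : Pt c) {f : X.functionField} (hf : f ≠ 0) :
    0 ≤ x.ord f ↔ f ∈ Set.range (algebraMap (X.presheaf.stalk x.pt) X.functionField) :=
  haveI := isDVR_stalk hdim x
  ord_nonneg_iff _ _ hf

theorem exists_uniformizer (x : Pt c) : ∃ f : X.functionField, f ≠ 0 ∧ x.ord f = 1 := by
  haveI := isDVR_stalk hdim x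
  obtain ⟨ϖ, hϖ⟩ := IsDiscreteValuationRing.exists_irreducible (X.presheaf.stalk x.pt)
  exact ⟨algebraMap _ _ ϖ, (map_ne_zero_iff _ (IsFractionRing.injective _ _)).2 hϖ.ne_zero,
    ord_irreducible _ _ hϖ⟩

theorem ord_constFun (x : Pt c) {a : k} (ha : a ≠ 0) : x.ord (constFun c a) = 0 := by
  haveI := isDVR_stalk hdim x
  let φ : k →+* X.presheaf.stalk x.pt :=
    (X.presheaf.germ ⊤ x.pt trivial).hom.comp (c.appTop.hom.comp (Scheme.ΓSpecIso (CommRingCat.of k)).inv.hom)
  have hu : IsUnit (φ a) := (IsUnit.mk0 a ha).map φ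
  have e : constFun c a = algebraMap (X.presheaf.stalk x.pt) X.functionField (φ a) := by
    simp only [constFun, φ, RingHom.comp_apply]
    haveI : Nonempty (⊤ : X.Opens) := ⟨⟨genericPoint X, trivial⟩⟩
    rw [Scheme.algebraMap_germ_eq_germToFunctionField]
  rw [e]
  obtain ⟨w, hw⟩ := hu
  rw [← hw]
  exact ord_unit _ _ w

/-- only finitely many points are zeros or poles -/
theorem finite_ord_ne_zero (f : X.functionField) : {x : Pt c | x.ord f ≠ 0}.Finite := by
  rcases eq_or_ne f 0 with rfl | hf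
  · refine Set.Finite.subset Set.finite_empty fun x hx => hx ?_
    haveI := isDVR_stalk hdim x
    show CycAlg.ordFrac _ _ _ = 0
    rw [CycAlg.ordFrac, dif_pos ⟨inferInstance, inferInstance, inferInstance, inferInstance⟩, map_zero]
    rfl
  obtain ⟨U, hU, f', hne, hf', hu⟩ := AlgebraicGeometry.exists_isUnit_germ_eq X f hf
  haveI := isNoetherian_of_proper (c := c)
  have hsub : {x : Pt c | x.ord f ≠ 0} ⊆ Pt.pt ⁻¹' (U : Set X)ᶜ := fun x hx hxU => hx (by
    haveI := isDVR_stalk hdim x
    have := Scheme.algebraMap_germ_eq_germToFunctionField (X := X) (U := U) hxU f'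
    rw [hf'] at this
    rw [← this]
    exact ord_unit _ _ (hu.map (X.presheaf.germ U x.pt hxU).hom).unit)
  refine Set.Finite.subset (Set.Finite.preimage pt_injective.injOn ?_) hsub
  have hclosed : IsClosed (U : Set X)ᶜ := U.isOpen.isClosed_compl
  obtain ⟨S, hS, hSc, hSi, he⟩ := TopologicalSpace.NoetherianSpace.exists_finite_set_isClosed_irreducible hclosed
  rw [he]
  refine hS.sUnion fun Z hZ => ?_
  obtain ⟨ξ, hξ⟩ := QuasiSober.sober (hSi Z hZ) (hSc Z hZ)
  have hξne : ξ ≠ genericPoint X := fun h => by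
    have hmem : ξ ∈ (U : Set X)ᶜ := he ▸ Set.mem_sUnion.mpr ⟨Z, hZ, hξ.mem⟩
    rw [h] at hmem
    obtain ⟨⟨y, hy⟩⟩ := hne
    exact hmem ((genericPoint_specializes y).mem_open U.isOpen hy)
  have : IsClosed ({ξ} : Set X) := (CurvesLib24.eq_genericPoint_or_isClosed hdim.le ξ).resolve_left hξne
  rw [← hξ.def, this.closure_eq]
  exact Set.finite_singleton ξ

/-- distinct points have incomparable valuations -/
theorem exists_incomparable (x y : Pt c) (h : x ≠ y) :
    ∃ b : X.functionField, b ≠ 0 ∧ 0 ≤ x.ord b ∧ y.ord b < 0 := by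
  haveI := isDVR_stalk hdim x
  haveI := isDVR_stalk hdim y
  haveI : X.IsSeparated := ⟨by
    have : IsSeparated (c ≫ CategoryTheory.Limits.terminal.from _) := inferInstance
    rwa [CategoryTheory.Limits.terminal.comp_from] at this⟩
  obtain ⟨R, hR0, hR⟩ := CurveLib.exists_valuationSubring_eq_range x.pt (IsDiscreteValuationRing.ringKrullDim_eq_one _)
  obtain ⟨S, hS0, hS⟩ := CurveLib.exists_valuationSubring_eq_range y.pt (IsDiscreteValuationRing.ringKrullDim_eq_one _)
  by_contra hcon
  push Not at hcon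
  have hle : R ≤ S := by
    intro b hb
    rcases eq_or_ne b 0 with rfl | hb0
    · exact zero_mem _
    have hb' : b ∈ Set.range (algebraMap (X.presheaf.stalk x.pt) X.functionField) := hR ▸ hb
    have := (nonneg_iff hdim y hb0).1 (hcon b hb0 ((nonneg_iff hdim x hb0).2 hb'))
    exact (hS.symm ▸ this : b ∈ (S : Set X.functionField))
  by_cases hRS : R = S
  · exact h (pt_injective (CurveLib.eq_of_eq_range R x.pt y.pt hR (hRS ▸ hS)))
  · obtain ⟨b, hbS, hbR⟩ := Set.exists_of_ssubset (lt_of_le_of_ne (show (R : Set X.functionField) ⊆ S from hle) (fun e => hRS (SetLike.coe_injective e)) : (R : Set X.functionField) ⊂ S)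
    have hb0 : b ≠ 0 := fun e => hbR (e ▸ zero_mem _)
    have hbx : x.ord b < 0 := by
      by_contra hge
      exact hbR (hR.symm ▸ (nonneg_iff hdim x hb0).1 (not_lt.1 hge))
    have hby : 0 ≤ y.ord b := (nonneg_iff hdim y hb0).2 (hS ▸ hbS)
    obtain ⟨t, ht, ht1⟩ := exists_uniformizer hdim y
    -- `b^m / t` has positive order at `x` for `m ≪ 0`
    have hv := isVal hdim x
    have hw := isVal hdim y
    let m : ℕ := (x.ord t).natAbs + 1
    have hm : (b ^ m * t)⁻¹ ≠ 0 := inv_ne_zero (mul_ne_zero (pow_ne_zero _ hb0) ht)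
    have h1 : 0 ≤ x.ord (b ^ m * t)⁻¹ := by
      rw [hv.inv (mul_ne_zero (pow_ne_zero _ hb0) ht), hv.mul (pow_ne_zero _ hb0) ht, hv.pow hb0]
      have : (m : ℤ) * x.ord b ≤ -(m : ℤ) := by nlinarith
      omega
    have h2 := hcon _ hm h1
    rw [hw.inv (mul_ne_zero (pow_ne_zero _ hb0) ht), hw.mul (pow_ne_zero _ hb0) ht, hw.pow hb0, ht1] at h2
    have : (0 : ℤ) ≤ (m : ℤ) * y.ord b := mul_nonneg (by positivity) hby
    omega

/-- weak approximation at finitely many points -/
theorem exists_approx (s : Finset (Pt c)) (t : Pt c → X.functionField) (n : ℕ) :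
    ∃ h : X.functionField, ∀ x ∈ s, h = t x ∨ (n : ℤ) ≤ x.ord (h - t x) := by
  classical
  obtain ⟨N, hN⟩ : ∃ N : ℕ, ∀ x ∈ s, ∀ y ∈ s, (n : ℤ) ≤ N + x.ord (t y) :=
    ⟨n + ∑ x ∈ s, ∑ y ∈ s, (x.ord (t y)).natAbs, fun x hx y hy => by
      have h1 : (x.ord (t y)).natAbs ≤ ∑ y ∈ s, (x.ord (t y)).natAbs :=
        Finset.single_le_sum (f := fun y => (x.ord (t y)).natAbs) (fun _ _ => Nat.zero_le _) hy
      have h2 : (∑ y ∈ s, (x.ord (t y)).natAbs) ≤ ∑ x ∈ s, ∑ y ∈ s, (x.ord (t y)).natAbs :=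
        Finset.single_le_sum (f := fun x => ∑ y ∈ s, (x.ord (t y)).natAbs) (fun _ _ => Nat.zero_le _) hx
      omega⟩
  have he : ∀ y : Pt c, ∃ e : X.functionField, (e = 1 ∨ (N : ℤ) ≤ y.ord (e - 1)) ∧ ∀ i ∈ s.erase y, e = 0 ∨ (N : ℤ) ≤ i.ord e := by
    intro y
    obtain ⟨b, hb, hb1⟩ := exists_uniformizer hdim y
    exact exists_near_delta (fun x : Pt c => (x.ord : X.functionField → ℤ)) (fun x => isVal hdim x)
      (fun i j hij => exists_incomparable hdim i j hij) y (s.erase y) (Finset.notMem_erase _ _) ⟨b, hb, by omega⟩ N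
  choose e he1 he2 using he
  refine ⟨∑ y ∈ s, t y * e y, fun x hx => ?_⟩
  have key : ∀ z : X.functionField, ∀ w : X.functionField, (z = 0 ∨ (n : ℤ) ≤ x.ord z) → (w = 0 ∨ (n : ℤ) ≤ x.ord w) →
      (z + w = 0 ∨ (n : ℤ) ≤ x.ord (z + w)) := by
    intro z w hz hw
    rcases eq_or_ne z 0 with rfl | hz0
    · simpa using hw
    rcases eq_or_ne w 0 with rfl | hw0
    · simpa using hz
    by_cases hzw : z + w = 0
    · exact Or.inl hzw
    · exact Or.inr (le_trans (le_min (hz.resolve_left hz0) (hw.resolve_left hw0)) ((isVal hdim x).add hz0 hw0 hzw))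
  have hmul : ∀ y ∈ s, ∀ w : X.functionField, (w = 0 ∨ (N : ℤ) ≤ x.ord w) → (t y * w = 0 ∨ (n : ℤ) ≤ x.ord (t y * w)) := by
    intro y hy w hw
    rcases eq_or_ne (t y) 0 with h0 | h0
    · exact Or.inl (by rw [h0, zero_mul])
    rcases eq_or_ne w 0 with rfl | hw0
    · exact Or.inl (mul_zero _)
    · refine Or.inr ?_
      rw [ord_mul hdim x h0 hw0]
      have := hN x hx y hy
      have := hw.resolve_left hw0
      omega
  have : ∑ y ∈ s, t y * e y - t x = t x * (e x - 1) + ∑ y ∈ s.erase x, t y * e y := by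
    rw [← Finset.add_sum_erase s _ hx]; ring
  rw [← sub_eq_zero, this]
  refine key _ _ (hmul x hx _ ?_) ?_
  · rcases he1 x with h | h
    · exact Or.inl (by rw [h, sub_self])
    · exact Or.inr h
  · refine Finset.sum_induction _ (fun z => z = 0 ∨ (n : ℤ) ≤ x.ord z) key (Or.inl rfl) fun y hy => ?_
    exact hmul y (Finset.mem_of_mem_erase hy) _ (he2 y x (Finset.mem_erase.2 ⟨(Finset.ne_of_mem_erase hy).symm, hx⟩))

omit hdim in
theorem germ_map_injective {U : X.Opens} [Nonempty U] : Function.Injective (X.germToFunctionField U) :=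
  Scheme.germToFunctionField_injective X U

/-- a rational function without poles is constant -/
theorem exists_eq_constFun (f : X.functionField) (hf : ∀ x : Pt c, 0 ≤ x.ord f) : ∃ a : k, f = constFun c a := by
  rcases eq_or_ne f 0 with rfl | hf0
  · exact ⟨0, (map_zero _).symm⟩
  haveI := isNoetherian_of_proper (c := c)
  have hloc : ∀ y : X, ∃ U : X.Opens, y ∈ U ∧ ∃ _ : Nonempty U, ∃ g : Γ(X, U), X.germToFunctionField U g = f := by
    intro y
    rcases CurvesLib24.eq_genericPoint_or_isClosed hdim.le y with rfl | hy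
    · obtain ⟨U, -, g, hne, hg, -⟩ := AlgebraicGeometry.exists_isUnit_germ_eq X f hf0
      obtain ⟨z, hz⟩ := hne.some
      exact ⟨U, (genericPoint_specializes z).mem_open U.isOpen hz, hne, g, hg⟩
    · obtain ⟨x, rfl⟩ := exists_pt (c := c) hy
      obtain ⟨a, ha⟩ := (nonneg_iff hdim x hf0).1 (hf x)
      obtain ⟨U, hxU, g, rfl⟩ := X.presheaf.exists_germ_eq a
      haveI hne : Nonempty U := ⟨⟨_, hxU⟩⟩
      rw [Scheme.algebraMap_germ_eq_germToFunctionField] at ha
      exact ⟨U, hxU, hne, g, ha⟩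
  choose U hU hne g hg using hloc
  obtain ⟨s, hs, -⟩ := X.sheaf.existsUnique_gluing' U ⊤ (fun _ => homOfLE le_top) (fun y _ => TopologicalSpace.Opens.mem_iSup.2 ⟨y, hU y⟩) g (by
    intro y z
    haveI hne' : Nonempty ↥(U y ⊓ U z) := by
      obtain ⟨⟨a, ha⟩⟩ := hne y
      obtain ⟨⟨b, hb⟩⟩ := hne z
      exact ⟨⟨genericPoint X, (genericPoint_specializes a).mem_open (U y).isOpen ha,
        (genericPoint_specializes b).mem_open (U z).isOpen hb⟩⟩
    apply @germ_map_injective _ _ (U y ⊓ U z) hne'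
    refine Eq.trans ?_ (Eq.trans ((hg y).trans (hg z).symm) ?_)
    · exact X.presheaf.germ_res_apply _ _ _ _
    · exact (X.presheaf.germ_res_apply _ _ _ _).symm)
  have : CompactSpace X := inferInstance
  obtain ⟨t, ht⟩ := Groth.Agent.AbSchLib.surjective_appTop_of_isAlgClosed k c s
  refine ⟨(Scheme.ΓSpecIso (CommRingCat.of k)).hom t, ?_⟩
  have e : (Scheme.ΓSpecIso (CommRingCat.of k)).inv ((Scheme.ΓSpecIso (CommRingCat.of k)).hom t) = t := by
    rw [← ConcreteCategory.comp_apply, Iso.hom_inv_id]; rfl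
  show f = X.presheaf.germ ⊤ (genericPoint X) trivial (c.appTop ((Scheme.ΓSpecIso (CommRingCat.of k)).inv _))
  rw [e, ht, ← hg (genericPoint X), ← hs (genericPoint X)]
  exact X.presheaf.germ_res_apply _ _ _ _

end Groth.Agent.LocSymLib29
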