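import Groth.Agent.LocSymLib29.Curve

/-! # Moduli and local symbols -/

set_option autoImplicit false

universe u v w

open CategoryTheory AlgebraicGeometry LocSym

namespace Groth.Agent.LocSymLib29

variable {k : Type u} [Field k] [IsAlgClosed k] {X : Scheme.{u}} [IsIntegral X]
  {c : X ⟶ Spec (CommRingCat.of k)} [IsProper c] [Smooth c] (hdim : topologicalKrullDim X = 1)
  {G : Type v} [CommGroup G] {m : Pt c →₀ ℕ}

theorem one_le_of_mem {x : Pt c} (hx : x ∈ m.support) : (1 : ℤ) ≤ m x := by
  have := Finsupp.mem_support_iff.1 hx; omega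

include hdim

theorem mulSupport_evalTerm_finite (m : Pt c →₀ ℕ) (f : Pt c → G) (g : X.functionField) [DecidableEq (Pt c)] :
    (Function.mulSupport fun x : Pt c => if x ∈ m.support then 1 else f x ^ x.ord g).Finite := by
  refine (finite_ord_ne_zero hdim g).subset fun x hx => ?_
  by_contra h
  simp only [Set.mem_setOf_eq, not_not] at h
  simp [h] at hx

theorem evalDiv_mul (m : Pt c →₀ ℕ) (f : Pt c → G) {g h : X.functionField} (hg : g ≠ 0) (hh : h ≠ 0) :
    evalDiv m f (g * h) = evalDiv m f g * evalDiv m f h := by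
  classical
  unfold evalDiv
  rw [← finprod_mul_distrib (mulSupport_evalTerm_finite hdim m f g) (mulSupport_evalTerm_finite hdim m f h)]
  refine finprod_congr fun x => ?_
  by_cases hx : x ∈ m.support
  · simp [hx]
  · simp [hx, ord_mul hdim x hg hh, zpow_add]

theorem evalDiv_one (m : Pt c →₀ ℕ) (f : Pt c → G) : evalDiv m f (1 : X.functionField) = 1 := by
  classical
  unfold evalDiv
  exact finprod_eq_one_of_forall_eq_one fun x => by simp [ord_one hdim x]

theorem evalDiv_inv (m : Pt c →₀ ℕ) (f : Pt c → G) {g : X.functionField} (hg : g ≠ 0) :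
    evalDiv m f g⁻¹ = (evalDiv m f g)⁻¹ := by
  have := evalDiv_mul hdim m f hg (inv_ne_zero hg)
  rw [mul_inv_cancel₀ hg, evalDiv_one hdim] at this
  exact eq_inv_of_mul_eq_one_right this.symm

theorem map_evalDiv {H : Type w} [CommGroup H] (θ : G →* H) (m : Pt c →₀ ℕ) (f : Pt c → G) (g : X.functionField) :
    evalDiv m (fun x => θ (f x)) g = θ (evalDiv m f g) := by
  classical
  unfold evalDiv
  rw [MonoidHom.map_finprod θ (mulSupport_evalTerm_finite hdim m f g)]
  refine finprod_congr fun x => ?_
  by_cases hx : x ∈ m.support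
  · simp [hx]
  · simp [hx]

theorem ord_of_cong {x : Pt c} (hx : x ∈ m.support) {u : X.functionField} (hu : u ≠ 0) (h : Cong1At m x u) :
    x.ord u = 0 := by
  rcases h with rfl | h
  · exact ord_one hdim x
  have h1 := one_le_of_mem hx
  by_cases he : 1 - u = 0
  · rw [← sub_eq_zero.1 he]; exact ord_one hdim x
  have := (isVal hdim x).add_eq_of_lt one_ne_zero (neg_ne_zero.2 he) (by rw [(isVal hdim x).neg, ord_one hdim x]; omega)
  rw [show (1 : X.functionField) + -(1 - u) = u by ring, ord_one hdim x] at this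
  exact this.2

theorem cong_mul {x : Pt c} (hx : x ∈ m.support) {u v : X.functionField} (hu : u ≠ 0) (hv : v ≠ 0)
    (h : Cong1At m x u) (h' : Cong1At m x v) : Cong1At m x (u * v) := by
  by_cases he : u * v = 1
  · exact Or.inl he
  rcases h with rfl | h
  · rw [one_mul]; exact h'
  rcases h' with rfl | h'
  · rw [mul_one]; exact Or.inr h
  have h0 := ord_of_cong hdim hx hu (Or.inr h)
  refine Or.inr ?_
  by_cases he1 : 1 - u = 0
  · rw [← sub_eq_zero.1 he1, one_mul]; exact h'
  by_cases he2 : 1 - v = 0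
  · rw [← sub_eq_zero.1 he2, mul_one]; exact h
  rw [show 1 - u * v = (1 - u) + u * (1 - v) by ring]
  refine le_trans (le_min h ?_) ((isVal hdim x).add he1 (mul_ne_zero hu he2) ?_)
  · rw [ord_mul hdim x hu he2, h0, zero_add]; exact h'
  · rw [show (1 - u) + u * (1 - v) = 1 - u * v by ring]
    exact fun e => he (sub_eq_zero.1 e).symm

theorem cong_inv {x : Pt c} (hx : x ∈ m.support) {u : X.functionField} (hu : u ≠ 0) (h : Cong1At m x u) :
    Cong1At m x u⁻¹ := by
  rcases h with rfl | h
  · exact Or.inl inv_one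
  have h0 := ord_of_cong hdim hx hu (Or.inr h)
  by_cases he1 : 1 - u = 0
  · exact Or.inl (by rw [← sub_eq_zero.1 he1, inv_one])
  refine Or.inr ?_
  rw [show 1 - u⁻¹ = -((1 - u) * u⁻¹) by field_simp; ring, (isVal hdim x).neg, ord_mul hdim x he1 (inv_ne_zero hu),
    (isVal hdim x).inv hu, h0]
  simpa using h

/-- a function congruent to `g` at `x` and to `1` elsewhere on the support -/
theorem exists_adapt {x : Pt c} (hx : x ∈ m.support) {g : X.functionField} (hg : g ≠ 0) :
    ∃ h : X.functionField, h ≠ 0 ∧ Cong1At m x (h / g) ∧ ∀ y ∈ m.support, y ≠ x → Cong1At m y h := by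
  classical
  let n : ℕ := (∑ y ∈ m.support, m y) + (x.ord g).natAbs + 1
  obtain ⟨h, hh⟩ := exists_approx hdim m.support (fun y => if y = x then g else 1) n
  have hm : ∀ y ∈ m.support, m y ≤ ∑ y ∈ m.support, m y := fun y hy =>
    Finset.single_le_sum (f := fun y => m y) (fun _ _ => Nat.zero_le _) hy
  have hhx : h = g ∨ (n : ℤ) ≤ x.ord (h - g) := by simpa using hh x hx
  have hne : h ≠ 0 := by
    rintro rfl
    rcases hhx with h | h
    · exact hg h.symm
    · rw [zero_sub, (isVal hdim x).neg] at h
      omega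
  refine ⟨h, hne, ?_, fun y hy hyx => ?_⟩
  · rcases hhx with rfl | h'
    · exact Or.inl (div_self hg)
    by_cases he : h / g = 1
    · exact Or.inl he
    refine Or.inr ?_
    have hne' : h - g ≠ 0 := fun e => he (by rw [sub_eq_zero.1 e, div_self hg])
    rw [show 1 - h / g = -((h - g) / g) by field_simp; ring, (isVal hdim x).neg, (isVal hdim x).div hne' hg]
    have := hm x hx
    omega
  · have hy' : h = 1 ∨ (n : ℤ) ≤ y.ord (h - 1) := by simpa [hyx] using hh y hy
    rcases hy' with rfl | h'
    · exact Or.inl rfl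
    refine Or.inr ?_
    rw [← (isVal hdim y).neg, neg_sub]
    have := hm y hy
    omega

omit hdim in
theorem cong1_of_adapt {x : Pt c} {u : X.functionField} (h : Cong1At m x u)
    (h' : ∀ y ∈ m.support, y ≠ x → Cong1At m y u) : Cong1 m u := fun y hy => by
  rcases eq_or_ne y x with rfl | hyx
  · exact h
  · exact h' y hy hyx

theorem evalDiv_eq_of_adapt {f : Pt c → G} (hf : IsModulus f m) {x : Pt c} (hx : x ∈ m.support)
    {g h h' : X.functionField} (hg : g ≠ 0) (hh : h ≠ 0) (hh' : h' ≠ 0) (h1 : Cong1At m x (h / g)) (h1' : Cong1At m x (h' / g))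
    (h2 : ∀ y ∈ m.support, y ≠ x → Cong1At m y h) (h2' : ∀ y ∈ m.support, y ≠ x → Cong1At m y h') :
    evalDiv m f h = evalDiv m f h' := by
  have key := hf (h * h'⁻¹) (mul_ne_zero hh (inv_ne_zero hh')) (cong1_of_adapt ?_ fun y hy hyx =>
    cong_mul hdim hy hh (inv_ne_zero hh') (h2 y hy hyx) (cong_inv hdim hy hh' (h2' y hy hyx)))
  · rwa [evalDiv_mul hdim m f hh (inv_ne_zero hh'), evalDiv_inv hdim m f hh', mul_inv_eq_one] at key
  · have e : h * h'⁻¹ = (h / g) * (h' / g)⁻¹ := by field_simp
    rw [e]
    exact cong_mul hdim hx (div_ne_zero hh hg) (inv_ne_zero (div_ne_zero hh' hg)) h1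
      (cong_inv hdim hx (div_ne_zero hh' hg) h1')

theorem exists_isLocalSymbol {f : Pt c → G} (hf : IsModulus f m) :
    ∃ σ : Pt c → (X.functionField)ˣ →* G, IsLocalSymbol f m σ := by
  classical
  have hex : ∀ x : {x : Pt c // x ∈ m.support}, ∀ g : (X.functionField)ˣ, ∃ h : X.functionField, h ≠ 0 ∧
      Cong1At m x.1 (h / (g : X.functionField)) ∧ ∀ y ∈ m.support, y ≠ x.1 → Cong1At m y h :=
    fun x g => exists_adapt hdim x.2 g.ne_zero
  choose h h0 h1 h2 using hex
  have hwd : ∀ (x : {x : Pt c // x ∈ m.support}) (g : (X.functionField)ˣ) (h' : X.functionField), h' ≠ 0 →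
      Cong1At m x.1 (h' / (g : X.functionField)) → (∀ y ∈ m.support, y ≠ x.1 → Cong1At m y h') →
      evalDiv m f (h x g) = evalDiv m f h' :=
    fun x g h' a b d => evalDiv_eq_of_adapt hdim hf x.2 g.ne_zero (h0 x g) a (h1 x g) b (h2 x g) d
  have hmul : ∀ (x : {x : Pt c // x ∈ m.support}) (g g' : (X.functionField)ˣ),
      (evalDiv m f (h x (g * g')))⁻¹ = (evalDiv m f (h x g))⁻¹ * (evalDiv m f (h x g'))⁻¹ := by
    intro x g g'
    rw [hwd x (g * g') (h x g * h x g') (mul_ne_zero (h0 x g) (h0 x g')) ?_ fun y hy hyx =>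
      cong_mul hdim hy (h0 x g) (h0 x g') (h2 x g y hy hyx) (h2 x g' y hy hyx),
      evalDiv_mul hdim m f (h0 x g) (h0 x g'), mul_inv]
    rw [Units.val_mul, ← div_mul_div_comm]
    exact cong_mul hdim x.2 (div_ne_zero (h0 x g) g.ne_zero) (div_ne_zero (h0 x g') g'.ne_zero) (h1 x g) (h1 x g')
  let σ : Pt c → (X.functionField)ˣ →* G := fun x =>
    if hx : x ∈ m.support then MonoidHom.mk' (fun g => (evalDiv m f (h ⟨x, hx⟩ g))⁻¹) (hmul ⟨x, hx⟩)
    else MonoidHom.mk' (fun g => f x ^ x.ord (g : X.functionField)) fun g g' => by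
      rw [Units.val_mul, ord_mul hdim x g.ne_zero g'.ne_zero, zpow_add]
  have hin : ∀ (x : Pt c) (hx : x ∈ m.support) (g : (X.functionField)ˣ), σ x g = (evalDiv m f (h ⟨x, hx⟩ g))⁻¹ :=
    fun x hx g => by simp only [σ, dif_pos hx]; rfl
  have hout : ∀ (x : Pt c) (_ : x ∉ m.support) (g : (X.functionField)ˣ), σ x g = f x ^ x.ord (g : X.functionField) :=
    fun x hx g => by simp only [σ, dif_neg hx]; rfl
  have hfin : ∀ g : (X.functionField)ˣ, (Function.mulSupport fun x => σ x g).Finite := fun g =>
    ((m.support.finite_toSet).union (finite_ord_ne_zero hdim (g : X.functionField))).subset fun x hx => by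
      by_contra hc
      rw [Set.mem_union, not_or] at hc
      simp only [Set.mem_setOf_eq, not_not, Finset.mem_coe] at hc
      exact hx (by show σ x g = 1; rw [hout x hc.1, hc.2, zpow_zero])
  refine ⟨σ, fun x hx g hg => ?_, hout, hfin, fun g => ?_⟩
  · rw [hin x hx, inv_eq_one, hwd ⟨x, hx⟩ g 1 one_ne_zero ?_ (fun y _ _ => Or.inl rfl), evalDiv_one hdim]
    rw [one_div]
    exact cong_inv hdim hx g.ne_zero hg
  · let H : X.functionField := ∏ x : {x : Pt c // x ∈ m.support}, h x g
    have hH : H ≠ 0 := Finset.prod_ne_zero_iff.2 fun x _ => h0 x g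
    have hev : ∀ s : Finset {x : Pt c // x ∈ m.support}, evalDiv m f (∏ x ∈ s, h x g) = ∏ x ∈ s, evalDiv m f (h x g) := by
      intro s
      induction s using Finset.induction_on with
      | empty => simpa using evalDiv_one hdim m f
      | @insert a s has ih =>
        rw [Finset.prod_insert has, Finset.prod_insert has,
          evalDiv_mul hdim m f (h0 a g) (Finset.prod_ne_zero_iff.2 fun x _ => h0 x g), ih]
    have hcong : Cong1 m (H / (g : X.functionField)) := by
      intro y hy
      have e : H / (g : X.functionField) = (h ⟨y, hy⟩ g / (g : X.functionField)) * ∏ x ∈ Finset.univ.erase ⟨y, hy⟩, h x g := by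
        rw [div_mul_eq_mul_div, Finset.mul_prod_erase _ (fun x => h x g) (Finset.mem_univ _)]
      rw [e]
      refine cong_mul hdim hy (div_ne_zero (h0 _ g) g.ne_zero) (Finset.prod_ne_zero_iff.2 fun x _ => h0 x g) (h1 _ g) ?_
      refine (Finset.prod_induction _ (fun z => z ≠ 0 ∧ Cong1At m y z) (fun a b ha hb =>
        ⟨mul_ne_zero ha.1 hb.1, cong_mul hdim hy ha.1 hb.1 ha.2 hb.2⟩) ⟨one_ne_zero, Or.inl rfl⟩ fun x hx => ?_).2
      exact ⟨h0 x g, h2 x g y hy fun e => Finset.ne_of_mem_erase hx (Subtype.ext e.symm)⟩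
    have key := hf _ (div_ne_zero hH g.ne_zero) hcong
    rw [div_eq_mul_inv, evalDiv_mul hdim m f hH (inv_ne_zero g.ne_zero), evalDiv_inv hdim m f g.ne_zero, hev,
      mul_inv_eq_one] at key
    have hsplit : ∏ᶠ x, σ x g = (∏ x ∈ m.support, σ x g) * evalDiv m f (g : X.functionField) := by
      have e : (fun x => σ x g) = (fun x => (if x ∈ m.support then σ x g else 1) *
          (if x ∈ m.support then 1 else f x ^ x.ord (g : X.functionField))) := funext fun x => by
        by_cases hx : x ∈ m.support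
        · simp [hx]
        · simp [hx, hout x hx]
      rw [e, finprod_mul_distrib (m.support.finite_toSet.subset fun x hx => ?_) (mulSupport_evalTerm_finite hdim m f _),
        finprod_eq_prod_of_mulSupport_subset _ (s := m.support) (fun x hx => ?_)]
      · rw [show evalDiv m f (g : X.functionField) = ∏ᶠ x : Pt c, if x ∈ m.support then 1 else f x ^ x.ord (g : X.functionField) from rfl]
        congr 1
        exact Finset.prod_congr rfl fun x hx => by simp [hx]
      · by_contra hc
        simp only [Finset.mem_coe] at hc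
        exact hx (if_neg hc)
      · by_contra hc
        simp only [Finset.mem_coe] at hc
        exact hx (if_neg hc)
    rw [hsplit, ← key, ← Finset.prod_attach m.support (fun x => σ x g), Finset.univ_eq_attach, ← Finset.prod_mul_distrib]
    exact Finset.prod_eq_one fun x _ => by rw [hin x.1 x.2, inv_mul_cancel]

theorem isModulus_of_symbol {f : Pt c → G} {σ : Pt c → (X.functionField)ˣ →* G} (hσ : IsLocalSymbol f m σ) :
    IsModulus f m := by
  classical
  intro g hg hc
  have := hσ.finprod_eq_one (Units.mk0 g hg)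
  rw [← this]
  unfold evalDiv
  refine finprod_congr fun x => ?_
  by_cases hx : x ∈ m.support
  · rw [if_pos hx, hσ.eq_one_of_cong x hx _ (hc x hx)]
  · rw [if_neg hx, hσ.eq_pow_of_notMem x hx]; rfl

/-- the value of a symbol at a point of the support -/
theorem symbol_eq {f : Pt c → G} {σ : Pt c → (X.functionField)ˣ →* G} (hσ : IsLocalSymbol f m σ) {x : Pt c}
    (hx : x ∈ m.support) (g : (X.functionField)ˣ) {h : X.functionField} (h0 : h ≠ 0)
    (h1 : Cong1At m x (h / (g : X.functionField))) (h2 : ∀ y ∈ m.support, y ≠ x → Cong1At m y h) :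
    σ x g = (evalDiv m f h)⁻¹ := by
  classical
  let H := Units.mk0 h h0
  have hxg : σ x H = σ x g := by
    rw [← mul_inv_eq_one, ← map_inv, ← map_mul]
    exact hσ.eq_one_of_cong x hx _ (by simpa [H, div_eq_mul_inv] using h1)
  have hsum := hσ.finprod_eq_one H
  have e : (fun y => σ y H) = (fun y => (if y = x then σ x H else 1) *
      (if y ∈ m.support then 1 else f y ^ y.ord h)) := funext fun y => by
    rcases eq_or_ne y x with rfl | hyx
    · simp [hx]
    by_cases hy : y ∈ m.support
    · simp [hy, hyx, hσ.eq_one_of_cong y hy H (h2 y hy hyx)]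
    · simp [hy, hyx, hσ.eq_pow_of_notMem y hy, H]
  rw [e, finprod_mul_distrib ((Set.finite_singleton x).subset fun y hy => by
    by_contra hc; simp [Set.mem_singleton_iff.not.1 hc] at hy) (mulSupport_evalTerm_finite hdim m f _),
    finprod_eq_single _ x (fun y hy => if_neg hy), if_pos rfl] at hsum
  rw [← hxg]
  exact eq_inv_of_mul_eq_one_left hsum

theorem symbol_unique {f : Pt c → G} {σ τ : Pt c → (X.functionField)ˣ →* G}
    (hσ : IsLocalSymbol f m σ) (hτ : IsLocalSymbol f m τ) : σ = τ := by
  funext x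
  refine MonoidHom.ext fun g => ?_
  by_cases hx : x ∈ m.support
  · obtain ⟨h, h0, h1, h2⟩ := exists_adapt hdim hx g.ne_zero
    rw [symbol_eq hdim hσ hx g h0 h1 h2, symbol_eq hdim hτ hx g h0 h1 h2]
  · rw [hσ.eq_pow_of_notMem x hx, hτ.eq_pow_of_notMem x hx]

/-- a symbol for a smaller modulus is one for a larger -/
theorem symbol_mono {f : Pt c → G} {σ : Pt c → (X.functionField)ˣ →* G} {n : Pt c →₀ ℕ} (hσ : IsLocalSymbol f m σ)
    (hle : m ≤ n) : IsLocalSymbol f n σ := by
  classical
  have hsub : m.support ⊆ n.support := fun x hx => by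
    rw [Finsupp.mem_support_iff] at hx ⊢
    have : m x ≤ n x := hle x
    omega
  refine ⟨fun x hx g hg => ?_, fun x hx g => hσ.eq_pow_of_notMem x (fun h => hx (hsub h)) g,
    hσ.mulSupport_finite, hσ.finprod_eq_one⟩
  by_cases hxm : x ∈ m.support
  · exact hσ.eq_one_of_cong x hxm g (hg.imp id fun h => by have : m x ≤ n x := hle x; omega)
  · rw [hσ.eq_pow_of_notMem x hxm, ord_of_cong hdim hx g.ne_zero hg, zpow_zero]

end Groth.Agent.LocSymLib29

namespace Groth.Agent.LocSymLib29

variable {k : Type u} [Field k] [IsAlgClosed k] {X : Scheme.{u}} [IsIntegral X]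
  {c : X ⟶ Spec (CommRingCat.of k)} [IsProper c] [Smooth c] (hdim : topologicalKrullDim X = 1)
  {G : Type v} [CommGroup G] {m : Pt c →₀ ℕ}
include hdim

theorem evalDiv_constFun (m : Pt c →₀ ℕ) (f : Pt c → G) {a : k} (ha : a ≠ 0) : evalDiv m f (constFun c a) = 1 := by
  classical
  exact finprod_eq_one_of_forall_eq_one fun x => by simp [ord_constFun hdim x ha]

theorem evalDiv_eq_zeros_div_poles (m : Pt c →₀ ℕ) (f : Pt c → G) (g : X.functionField) :
    evalDiv m f g = evalZeros m f g * (evalPoles m f g)⁻¹ := by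
  classical
  unfold evalDiv evalZeros evalPoles
  have h1 : (Function.mulSupport fun x : Pt c => if x ∈ m.support then 1 else f x ^ (max (x.ord g) 0).toNat).Finite :=
    (finite_ord_ne_zero hdim g).subset fun x hx => by
      by_contra h
      simp only [Set.mem_setOf_eq, not_not] at h
      simp [h] at hx
  have h2 : (Function.mulSupport fun x : Pt c => if x ∈ m.support then 1 else f x ^ (max (-x.ord g) 0).toNat).Finite :=
    (finite_ord_ne_zero hdim g).subset fun x hx => by
      by_contra h
      simp only [Set.mem_setOf_eq, not_not] at h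
      simp [h] at hx
  rw [← finprod_inv_distrib, ← finprod_mul_distrib h1 (h2.subset fun x hx => by simpa using hx)]
  refine finprod_congr fun x => ?_
  by_cases hx : x ∈ m.support
  · simp [hx]
  rw [if_neg hx, if_neg hx, if_neg hx, ← zpow_natCast, ← zpow_natCast, ← zpow_neg, ← zpow_add]
  congr 1
  omega

theorem evalPoles_sub_const (m : Pt c →₀ ℕ) (f : Pt c → G) {g : X.functionField} (hg : g ≠ 0) (a : k)
    (hga : g - constFun c a ≠ 0) : evalPoles m f (g - constFun c a) = evalPoles m f g := by
  classical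
  unfold evalPoles
  refine finprod_congr fun x => ?_
  by_cases hx : x ∈ m.support
  · simp [hx]
  rw [if_neg hx, if_neg hx]
  congr 1
  rcases eq_or_ne a 0 with rfl | ha
  · simp
  have hv := isVal hdim x
  have hc : constFun c a ≠ 0 := (map_ne_zero (constFun c)).2 ha
  have hc0 := ord_constFun hdim x ha
  by_cases h : x.ord g < 0
  · have h2 := (hv.add_eq_of_lt hg (neg_ne_zero.2 hc) (by rw [hv.neg]; omega)).2
    rw [← sub_eq_add_neg] at h2
    rw [h2]
  · have h1 := hv.add hg (neg_ne_zero.2 hc) (by rw [← sub_eq_add_neg]; exact hga)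
    rw [← sub_eq_add_neg, hv.neg] at h1
    omega

theorem isModulus_iff_criterion (f : Pt c → G) :
    IsModulus f m ↔
      ∀ g : X.functionField, g ≠ 0 → (∃ x : Pt c, x.ord g < 0) →
        (∀ x ∈ m.support, (m x : ℤ) ≤ x.ord g) →
          ∀ a : k, a ≠ 0 → evalZeros m f (g - constFun c a) = evalPoles m f g := by
  constructor
  · rintro hf g hg ⟨p, hp⟩ hord a ha
    have hc : constFun c a ≠ 0 := (map_ne_zero (constFun c)).2 ha
    have hga : g - constFun c a ≠ 0 := fun e => by
      rw [sub_eq_zero.1 e, ord_constFun hdim p ha] at hp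
      omega
    have hna : constFun c (-a) ≠ 0 := (map_ne_zero (constFun c)).2 (neg_ne_zero.2 ha)
    have h1 := hf ((g - constFun c a) * (constFun c (-a))⁻¹) (mul_ne_zero hga (inv_ne_zero hna)) fun x hx => Or.inr (by
      rw [show 1 - (g - constFun c a) * (constFun c (-a))⁻¹ = g * (constFun c a)⁻¹ by
          rw [map_neg]; field_simp; ring,
        ord_mul hdim x hg (inv_ne_zero hc), pt_ord_inv hdim x hc, ord_constFun hdim x ha]
      simpa using hord x hx)
    rw [evalDiv_mul hdim m f hga (inv_ne_zero hna), evalDiv_inv hdim m f hna, evalDiv_constFun hdim m f (neg_ne_zero.2 ha),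
      inv_one, mul_one, evalDiv_eq_zeros_div_poles hdim, mul_inv_eq_one, evalPoles_sub_const hdim m f hg a hga] at h1
    exact h1
  · intro h u hu hcong
    by_cases h1 : u = 1
    · rw [h1]; exact evalDiv_one hdim m f
    have hord : ∀ x ∈ m.support, (m x : ℤ) ≤ x.ord (1 - u) := fun x hx => (hcong x hx).resolve_left h1
    by_cases hp : ∃ x : Pt c, x.ord (1 - u) < 0
    · have hg : (1 - u) ≠ 0 := sub_ne_zero.2 (Ne.symm h1)
      have hga : (1 - u) - constFun c (1 : k) ≠ 0 := by rw [map_one]; simpa using hu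
      have := h _ hg hp hord 1 one_ne_zero
      have e : evalDiv m f ((1 - u) - constFun c (1 : k)) = 1 := by
        rw [evalDiv_eq_zeros_div_poles hdim, this, evalPoles_sub_const hdim m f hg 1 hga, mul_inv_cancel]
      rw [show u = constFun c (-1 : k) * ((1 - u) - constFun c (1 : k)) by simp, evalDiv_mul hdim m f ((map_ne_zero (constFun c)).2 (by simp)) hga,
        evalDiv_constFun hdim m f (by simp), e, one_mul]
    · push Not at hp
      obtain ⟨b, hb⟩ := exists_eq_constFun hdim (1 - u) hp
      have hu' : u = constFun c (1 - b) := by rw [map_sub, map_one, ← hb]; ring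
      rw [hu']
      exact evalDiv_constFun hdim m f fun e => hu (by rw [hu', e, map_zero])

end Groth.Agent.LocSymLib29
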