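import Groth.Prelude.Def_W4c1etcurveeff2PicMod
import Groth.Agent.LocSymLib29.Value
import Mathlib.RingTheory.RootsOfUnity.AlgebraicallyClosed

/-! # The generalised Picard group of a reduced modulus -/

set_option autoImplicit false

universe u

open CategoryTheory AlgebraicGeometry LocSym W4c1etcurveeff2

namespace Groth.Agent.LocSymLib29

variable {k : Type u} [Field k] [IsAlgClosed k] {X : Scheme.{u}} [IsIntegral X]
  {c : X ⟶ Spec (CommRingCat.of k)} [IsProper c] [Smooth c] (hdim : topologicalKrullDim X = 1)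

include hdim

/-- every nonzero function has a divisor -/
theorem exists_isDivOf {g : X.functionField} (hg : g ≠ 0) : ∃ D : Pt c →₀ ℤ, IsDivOf c D g :=
  ⟨Finsupp.ofSupportFinite (fun x => x.ord g) (finite_ord_ne_zero hdim g), hg, fun _ => rfl⟩

theorem isDivOf_mul {D E : Pt c →₀ ℤ} {g h : X.functionField} (hD : IsDivOf c D g) (hE : IsDivOf c E h) :
    IsDivOf c (D + E) (g * h) :=
  ⟨mul_ne_zero hD.1 hE.1, fun x => by rw [Finsupp.add_apply, hD.2, hE.2, ord_mul hdim x hD.1 hE.1]⟩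

theorem isDivOf_inv {D : Pt c →₀ ℤ} {g : X.functionField} (hD : IsDivOf c D g) : IsDivOf c (-D) g⁻¹ :=
  ⟨inv_ne_zero hD.1, fun x => by rw [Finsupp.neg_apply, hD.2, pt_ord_inv hdim x hD.1]⟩

theorem mem_principal_iff {D : Pt c →₀ ℤ} : D ∈ principal c ↔ ∃ g, IsDivOf c D g := by
  refine ⟨fun h => ?_, fun ⟨g, hg⟩ => AddSubgroup.subset_closure ⟨g, hg⟩⟩
  induction h using AddSubgroup.closure_induction with
  | mem x hx => exact hx
  | zero => exact ⟨1, one_ne_zero, fun x => by rw [ord_one hdim x]; rfl⟩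
  | add x y _ _ hx hy => obtain ⟨g, hg⟩ := hx; obtain ⟨h, hh⟩ := hy; exact ⟨g * h, isDivOf_mul hdim hg hh⟩
  | neg x _ hx => obtain ⟨g, hg⟩ := hx; exact ⟨g⁻¹, isDivOf_inv hdim hg⟩

theorem mem_principalMod_iff {m : Pt c →₀ ℕ} {D : divAway c m} :
    D ∈ principalMod c m ↔ ∃ g, IsDivOf c (D : Pt c →₀ ℤ) g ∧ Cong1 m g := by
  refine ⟨fun h => ?_, fun ⟨g, hg⟩ => AddSubgroup.subset_closure ⟨g, hg⟩⟩
  induction h using AddSubgroup.closure_induction with
  | mem x hx => exact hx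
  | zero => exact ⟨1, ⟨one_ne_zero, fun x => by rw [ord_one hdim x]; rfl⟩, fun x _ => Or.inl rfl⟩
  | add x y _ _ hx hy =>
    obtain ⟨g, hg, hg'⟩ := hx; obtain ⟨h, hh, hh'⟩ := hy
    exact ⟨g * h, isDivOf_mul hdim hg hh, fun z hz => cong_mul hdim hz hg.1 hh.1 (hg' z hz) (hh' z hz)⟩
  | neg x _ hx =>
    obtain ⟨g, hg, hg'⟩ := hx
    exact ⟨g⁻¹, isDivOf_inv hdim hg, fun z hz => cong_inv hdim hz hg.1 (hg' z hz)⟩

variable {m : Pt c →₀ ℕ} (hm : ∀ x : Pt c, m x ≤ 1)
include hm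

omit hdim [IsAlgClosed k] [IsIntegral X] [IsProper c] [Smooth c] in
theorem eq_one_of_mem {x : Pt c} (hx : x ∈ m.support) : m x = 1 := by
  have := hm x
  have := Finsupp.mem_support_iff.1 hx
  omega

theorem picModToPic_surjective : Function.Surjective (picModToPic c m) := by
  intro y
  obtain ⟨D, rfl⟩ := QuotientAddGroup.mk_surjective y
  obtain ⟨g, hg, hgo⟩ := exists_orders hdim m.support (fun x => D x)
  obtain ⟨E, hE⟩ := exists_isDivOf (c := c) hdim (g := g) hg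
  refine ⟨QuotientAddGroup.mk ⟨D - E, fun x hx => by rw [Finsupp.sub_apply, hE.2, hgo x hx, sub_self]⟩, ?_⟩
  show ((D - E : Pt c →₀ ℤ) : Pic c) = _
  rw [QuotientAddGroup.eq, mem_principal_iff hdim]
  exact ⟨g, by simpa using hE⟩

omit hdim hm [IsAlgClosed k] [IsProper c] [Smooth c] in
theorem picModToPic_mk (D : divAway c m) : picModToPic c m (QuotientAddGroup.mk D) = ((D : Pt c →₀ ℤ) : Pic c) := rfl

/-- the kernel of `Pic_m → Pic` -/
theorem picModToPic_eq_zero_iff (y : PicMod c m) :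
    picModToPic c m y = 0 ↔
      ∃ (g : X.functionField) (D : divAway c m) (v : Pt c → kˣ),
        IsDivOf c (D : Pt c →₀ ℤ) g ∧ (∀ x ∈ m.support, HasValueAt x g (v x : k)) ∧
        y = (QuotientAddGroup.mk D : PicMod c m) := by
  classical
  constructor
  · intro h
    obtain ⟨D, rfl⟩ := QuotientAddGroup.mk_surjective y
    rw [picModToPic_mk, QuotientAddGroup.eq_zero_iff, mem_principal_iff hdim] at h
    obtain ⟨g, hg⟩ := h
    have : ∀ x : {x : Pt c // x ∈ m.support}, ∃ a : kˣ, HasValueAt x.1 g (a : k) := fun x =>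
      exists_unit_hasValueAt hdim x.1 hg.1 (by rw [← hg.2]; exact D.2 x.1 x.2)
    choose a ha using this
    exact ⟨g, D, fun x => if hx : x ∈ m.support then a ⟨x, hx⟩ else 1, hg,
      fun x hx => by simp only [dif_pos hx]; exact ha ⟨x, hx⟩, rfl⟩
  · rintro ⟨g, D, v, hg, -, rfl⟩
    rw [picModToPic_mk, QuotientAddGroup.eq_zero_iff, mem_principal_iff hdim]
    exact ⟨g, hg⟩

theorem exists_class (v : Pt c → kˣ) : ∃ (g : X.functionField) (D : divAway c m),
    IsDivOf c (D : Pt c →₀ ℤ) g ∧ (∀ x ∈ m.support, HasValueAt x g (v x : k)) := by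
  obtain ⟨g, hg, hv⟩ := exists_values hdim m.support v
  obtain ⟨D, hD⟩ := exists_isDivOf hdim (c := c) hg
  exact ⟨g, ⟨D, fun x hx => by rw [hD.2]; exact (ord_eq_zero_of_hasValueAt hdim x (hv x hx) (v x).ne_zero).2⟩, hD, hv⟩

/-- two functions with proportional values give the same class -/
theorem mk_eq_mk_iff {g g' : X.functionField} {D D' : divAway c m} {v v' : Pt c → kˣ}
    (hg : IsDivOf c (D : Pt c →₀ ℤ) g) (hg' : IsDivOf c (D' : Pt c →₀ ℤ) g')
    (hv : ∀ x ∈ m.support, HasValueAt x g (v x : k)) (hv' : ∀ x ∈ m.support, HasValueAt x g' (v' x : k)) :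
    (QuotientAddGroup.mk D : PicMod c m) = QuotientAddGroup.mk D' ↔ ∃ a : kˣ, ∀ x ∈ m.support, v' x = a * v x := by
  rw [QuotientAddGroup.eq, mem_principalMod_iff hdim]
  constructor
  · rintro ⟨u, hu, hu1⟩
    have hnp : ∀ x : Pt c, x.ord (g' / (g * u)) = 0 := fun x => by
      rw [(isVal hdim x).div hg'.1 (mul_ne_zero hg.1 hu.1), ord_mul hdim x hg.1 hu.1, ← hg'.2, ← hg.2, ← hu.2]
      simp
    obtain ⟨a, ha⟩ := exists_eq_constFun hdim _ fun x => (hnp x).ge
    have ha0 : a ≠ 0 := by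
      rintro rfl
      rw [map_zero, div_eq_zero_iff] at ha
      exact ha.elim hg'.1 (mul_ne_zero hg.1 hu.1)
    refine ⟨Units.mk0 a ha0, fun x hx => Units.ext (hasValueAt_unique hdim x (hv' x hx) ?_)⟩
    have := hasValueAt_mul hdim x (hasValueAt_const x a)
      (hasValueAt_mul hdim x (hv x hx) ((cong1At_iff_hasValueAt hdim (eq_one_of_mem hm hx) u).1 (hu1 x hx)))
    rw [← ha, div_mul_cancel₀ _ (mul_ne_zero hg.1 hu.1), mul_one] at this
    exact this
  · rintro ⟨a, ha⟩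
    have hca : constFun c (a : k) ≠ 0 := (map_ne_zero (constFun c)).2 a.ne_zero
    refine ⟨g' / (constFun c (a : k) * g), ⟨div_ne_zero hg'.1 (mul_ne_zero hca hg.1), fun x => ?_⟩, fun x hx => ?_⟩
    · rw [AddSubgroup.coe_add, AddSubgroup.coe_neg, Finsupp.add_apply, Finsupp.neg_apply,
        (isVal hdim x).div hg'.1 (mul_ne_zero hca hg.1), ord_mul hdim x hca hg.1, ord_constFun hdim x a.ne_zero,
        ← hg'.2, ← hg.2]
      ring
    · rw [cong1At_iff_hasValueAt hdim (eq_one_of_mem hm hx)]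
      have := hasValueAt_div hdim x (hv' x hx) (hasValueAt_mul hdim x (hasValueAt_const x (a : k)) (hv x hx))
        (mul_ne_zero a.ne_zero (v x).ne_zero)
      rwa [show ((v' x : kˣ) : k) / ((a : k) * (v x : k)) = 1 by
        rw [ha x hx, Units.val_mul, div_self (mul_ne_zero a.ne_zero (v x).ne_zero)]] at this

theorem mk_eq_zero_iff {g : X.functionField} {D : divAway c m} {v : Pt c → kˣ}
    (hg : IsDivOf c (D : Pt c →₀ ℤ) g) (hv : ∀ x ∈ m.support, HasValueAt x g (v x : k)) :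
    (QuotientAddGroup.mk D : PicMod c m) = 0 ↔ ∃ a : kˣ, ∀ x ∈ m.support, v x = a := by
  rw [eq_comm, ← QuotientAddGroup.mk_zero]
  rw [mk_eq_mk_iff hdim hm (g := 1) (D := 0) (v := fun _ => 1) ⟨one_ne_zero, fun x => by rw [ord_one hdim x]; rfl⟩ hg
    (fun x _ => by simpa using hasValueAt_one x) hv]
  simp

theorem exists_torsion_lift {n : ℕ} (hn : 1 ≤ n) (y : Pic c) (hy : n • y = 0) :
    ∃ x : PicMod c m, n • x = 0 ∧ picModToPic c m x = y := by
  classical
  obtain ⟨x0, rfl⟩ := picModToPic_surjective hdim hm y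
  rw [← map_nsmul, picModToPic_eq_zero_iff hdim hm] at hy
  obtain ⟨f, E, v, hf, hv, hE⟩ := hy
  have hw : ∀ x : Pt c, ∃ w : kˣ, w ^ n = v x := fun x => by
    obtain ⟨w, hw⟩ := IsAlgClosed.exists_pow_nat_eq (v x : k) (by omega : 0 < n)
    exact ⟨Units.mk0 w (fun e => (v x).ne_zero (by rw [← hw, e, zero_pow (by omega)])), Units.ext hw⟩
  choose w hw using hw
  obtain ⟨g, D, hg, hgv⟩ := exists_class hdim hm (m := m) w
  refine ⟨x0 - QuotientAddGroup.mk D, ?_, ?_⟩
  · rw [nsmul_sub, hE, ← QuotientAddGroup.mk_nsmul, sub_eq_zero]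
    refine (mk_eq_mk_iff hdim hm (g' := g ^ n) (v' := fun x => w x ^ n) hf ⟨pow_ne_zero _ hg.1, fun x => ?_⟩ hv
      (fun x hx => by rw [Units.val_pow_eq_pow_val]; exact hasValueAt_pow hdim x (hgv x hx) n)).2 ⟨1, fun x _ => by rw [one_mul, hw]⟩
    rw [AddSubmonoidClass.coe_nsmul, Finsupp.coe_smul, Pi.smul_apply, hg.2, (isVal hdim x).pow hg.1, nsmul_eq_mul]
  · rw [map_sub, picModToPic_mk, (QuotientAddGroup.eq_zero_iff _).2 ((mem_principal_iff hdim).2 ⟨g, hg⟩), sub_zero]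

theorem natCard_torsion_ker {n : ℕ} (hn : 1 ≤ n) (hnk : (n : k) ≠ 0) :
    Nat.card {x : PicMod c m // n • x = 0 ∧ picModToPic c m x = 0} = n ^ (m.support.card - 1) := by
  classical
  haveI : NeZero n := ⟨by omega⟩
  haveI : NeZero (n : k) := ⟨hnk⟩
  have hpow : ∀ {g : X.functionField} {D : divAway c m} {v : Pt c → kˣ}, IsDivOf c (D : Pt c →₀ ℤ) g →
      (∀ x ∈ m.support, HasValueAt x g (v x : k)) →
      IsDivOf c ((n • D : divAway c m) : Pt c →₀ ℤ) (g ^ n) ∧ ∀ x ∈ m.support, HasValueAt x (g ^ n) ((v x ^ n : kˣ) : k) := by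
    intro g D v hg hv
    refine ⟨⟨pow_ne_zero _ hg.1, fun x => ?_⟩, fun x hx => by rw [Units.val_pow_eq_pow_val]; exact hasValueAt_pow hdim x (hv x hx) n⟩
    rw [AddSubmonoidClass.coe_nsmul, Finsupp.coe_smul, Pi.smul_apply, hg.2, (isVal hdim x).pow hg.1, nsmul_eq_mul]
  rcases m.support.eq_empty_or_nonempty with hS | ⟨x0, hx0⟩
  · rw [hS, Finset.card_empty, Nat.zero_sub, pow_zero, Nat.card_eq_one_iff_exists]
    refine ⟨⟨0, nsmul_zero _, map_zero _⟩, fun ⟨x, _, hx⟩ => Subtype.ext ?_⟩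
    obtain ⟨g, D, v, hg, hv, rfl⟩ := (picModToPic_eq_zero_iff hdim hm x).1 hx
    exact (mk_eq_zero_iff hdim hm hg hv).2 ⟨1, by simp [hS]⟩
  let T := {x : Pt c // x ∈ m.support.erase x0}
  let ext' : (T → rootsOfUnity n k) → Pt c → kˣ := fun z x => if h : x ∈ m.support.erase x0 then (z ⟨x, h⟩ : kˣ) else 1
  have hext : ∀ z x, ext' z x ^ n = 1 := fun z x => by
    simp only [ext']
    split_ifs with h
    · exact (mem_rootsOfUnity n _).1 (z ⟨x, h⟩).2
    · exact one_pow n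
  choose g D hg hv using fun z => exists_class hdim hm (m := m) (ext' z)
  have hmem : ∀ z, n • (QuotientAddGroup.mk (D z) : PicMod c m) = 0 ∧ picModToPic c m (QuotientAddGroup.mk (D z)) = 0 := by
    intro z
    refine ⟨?_, (picModToPic_eq_zero_iff hdim hm _).2 ⟨g z, D z, ext' z, hg z, hv z, rfl⟩⟩
    rw [← QuotientAddGroup.mk_nsmul]
    exact (mk_eq_zero_iff hdim hm (hpow (hg z) (hv z)).1 (hpow (hg z) (hv z)).2).2 ⟨1, fun x _ => hext z x⟩
  have hbij : Function.Bijective (fun z => (⟨QuotientAddGroup.mk (D z), hmem z⟩ : {x : PicMod c m // n • x = 0 ∧ picModToPic c m x = 0})) := by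
    constructor
    · intro z z' h
      obtain ⟨a, ha⟩ := (mk_eq_mk_iff hdim hm (hg z) (hg z') (hv z) (hv z')).1 (congrArg Subtype.val h)
      have h0 := ha x0 hx0
      simp only [ext', dif_neg (Finset.notMem_erase x0 m.support), mul_one] at h0
      funext t
      have ht := ha t.1 (Finset.mem_of_mem_erase t.2)
      simp only [ext', dif_pos t.2, ← h0, one_mul] at ht
      exact Subtype.ext ht.symm
    · rintro ⟨x, hx1, hx2⟩
      obtain ⟨f, E, v, hf, hfv, rfl⟩ := (picModToPic_eq_zero_iff hdim hm x).1 hx2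
      rw [← QuotientAddGroup.mk_nsmul] at hx1
      obtain ⟨a, ha⟩ := (mk_eq_zero_iff hdim hm (hpow hf hfv).1 (hpow hf hfv).2).1 hx1
      let z : T → rootsOfUnity n k := fun t => ⟨v t.1 / v x0, (mem_rootsOfUnity n _).2 (by
        rw [div_pow, ha t.1 (Finset.mem_of_mem_erase t.2), ha x0 hx0, div_self'])⟩
      refine ⟨z, Subtype.ext ((mk_eq_mk_iff hdim hm (hg z) hf (hv z) hfv).2 ⟨v x0, fun y hy => ?_⟩)⟩
      rcases eq_or_ne y x0 with rfl | hne
      · simp [ext']
      · simp only [ext', dif_pos (Finset.mem_erase.2 ⟨hne, hy⟩), z, mul_div_cancel]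
  rw [← Nat.card_congr (Equiv.ofBijective _ hbij), Nat.card_fun, HasEnoughRootsOfUnity.natCard_rootsOfUnity k n,
    Nat.card_eq_fintype_card, Fintype.card_coe, Finset.card_erase_of_mem hx0]

end Groth.Agent.LocSymLib29
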